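import Groth.Agent.H27Mul.Restrict
import Groth.Agent.H11Ample.ToPn
import Groth.Agent.H11Ample.Converse
import Groth.Agent.H11Ample.Tensor
import Groth.Agent.H10Coh.SerreVanishing
import Groth.Agent.H16Derived.GTheory.ProjBundle
import Groth.Agent.H28Int.Core

/-!
# Multiplication of sections for powers of a globally generated invertible module
-/

set_option autoImplicit false
set_option linter.style.haveILetI false
set_option linter.unusedSectionVars false
set_option backward.isDefEq.respectTransparency.types false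
universe u

open CategoryTheory CategoryTheory.Limits AlgebraicGeometry Opposite TopologicalSpace
open Groth.Agent Groth.Agent.H22Alg.CMField
open Groth.Agent.H11Ample Groth.Agent.H11Tilde
attribute [local instance 10000] Groth.Agent.H10Coh.hasSheafifyAb Groth.Agent.H10Coh.hasWeakSheafifyAb Groth.Agent.H10Coh.hasExtAb Groth.Agent.H10Coh.enoughInjAb

noncomputable section

namespace Groth.Agent.H27Mul

variable {X S : Scheme.{u}} (f : X ⟶ S) (F : X.Modules) (N : S.Modules)

/-- The projection formula pairing. -/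
def projPairing : H11Tilde.Pairing ((Coh.push f).obj F) N
    ((Coh.push f).obj (CohB1.tensorMod F ((Scheme.Modules.pullback f).obj N))) where
  toFun U g n := tm (show Γ(F, f ⁻¹ᵁ U) from g) (OmegaSh.pullSect f N U n)
  add_left U g g' n := tm_add_left _ _ _
  smul_left U r g n := tm_smul_left (f.app U r) _ _
  add_right U g n n' := by
    change tm _ (OmegaSh.pullSect f N U (n + n')) = tm _ _ + tm _ _
    exact (congrArg (tm _) (map_add _ _ _)).trans (tm_add_right _ _ _)
  smul_right U r g n := by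
    change tm _ (OmegaSh.pullSect f N U (r • n)) = f.app U r • tm _ _
    exact (congrArg (tm _) (OmegaSh.pullSect_smul f N U r n)).trans (tm_smul_right _ _ _)
  res U V h g n := by
    refine (tm_res (f.preimage_mono h) _ _).trans ?_
    exact congrArg (tm _) (H11Tilde.pullSect_res f N h n).symm

theorem bijective_app {A B : S.Modules} (φ : A ⟶ B) [IsIso φ] (U : S.Opens) : Function.Bijective (φ.app U) :=
  H17.PullSect.bijective_app φ U

open H11Tilde in
theorem isIso_tensorDesc_of_gen {X : Scheme.{u}} {M N P : X.Modules} (β : H11Tilde.Pairing M N P)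
    (h : ∀ x : X, ∃ U : X.Opens, x ∈ U ∧ ∃ g : Γ(N, U), ∀ (V : X.Opens) (hV : V ≤ U),
      (Function.Bijective fun r : Γ(X, V) => r • N.presheaf.map (homOfLE hV).op g) ∧
        Function.Bijective fun m : Γ(M, V) => β.toFun V m (N.presheaf.map (homOfLE hV).op g)) :
    IsIso (tensorDesc β) := by
  refine isIso_tensorDesc β fun x => ?_
  obtain ⟨U, hxU, g, hg⟩ := h x
  refine ⟨U, hxU, fun V hV => ?_⟩
  obtain ⟨hN, hβ⟩ := hg V hV
  let g' := N.presheaf.map (homOfLE hV).op g
  let κ : Γ(M, V) → (CohB1.tensorPre M N).obj (op V) := fun m =>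
    (show (CohB1.toPMod M).obj (op V) from m) ⊗ₜ (show (CohB1.toPMod N).obj (op V) from g')
  have hκ : Function.Surjective κ := by
    intro t
    induction t using TensorProduct.induction_on with
    | zero => exact ⟨0, TensorProduct.zero_tmul _ _⟩
    | tmul m n =>
      obtain ⟨r, hr⟩ := hN.2 n
      subst hr
      exact ⟨(show Γ(M, V) from (show Γ(X, V) from r) • (show Γ(M, V) from m)), TensorProduct.smul_tmul
        (R := (X.sheaf.obj ⋙ forget₂ CommRingCat RingCat).obj (op V))
        (show (X.sheaf.obj ⋙ forget₂ CommRingCat RingCat).obj (op V) from r) _ _⟩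
    | add a b ha hb =>
      obtain ⟨a', rfl⟩ := ha
      obtain ⟨b', rfl⟩ := hb
      exact ⟨a' + b', TensorProduct.add_tmul _ _ _⟩
  exact ⟨fun a b e => by
    obtain ⟨a', rfl⟩ := hκ a
    obtain ⟨b', rfl⟩ := hκ b
    exact congrArg κ (hβ.1 e), fun p => ⟨κ (hβ.2 p).choose, (hβ.2 p).choose_spec⟩⟩

theorem isIso_proj (hN : PicF.IsInvertible N) : IsIso (H11Tilde.tensorDesc (projPairing f F N)) := by
  refine isIso_tensorDesc_of_gen _ fun x => ?_
  obtain ⟨U, e, hx, he⟩ := exists_gen hN x
  refine ⟨U, hx, e, fun V hV => ⟨he.bijective hV, ?_⟩⟩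
  have h := bijective_tm (F := F) (IsGen.pullSect f he) (f.preimage_mono hV)
  rw [← H11Tilde.pullSect_res f N hV e] at h
  exact h

/-- Products spanning downstairs span upstairs for pull-backs of invertible modules. -/
theorem spanned_pullback {N₁ N₂ : S.Modules} (h₁ : PicF.IsInvertible N₁) (h₂ : PicF.IsInvertible N₂)
    (h : Spanned (CohB1.tensorMod ((Coh.push f).obj F) N₁) N₂) :
    Spanned (CohB1.tensorMod F ((Scheme.Modules.pullback f).obj N₁)) ((Scheme.Modules.pullback f).obj N₂) := by
  let G := CohB1.tensorMod F ((Scheme.Modules.pullback f).obj N₁)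
  haveI := isIso_proj f F N₁ h₁
  haveI := isIso_proj f G N₂ h₂
  let θ := LimSh.tensorModMap (H11Tilde.tensorDesc (projPairing f F N₁)) N₂ ≫
    H11Tilde.tensorDesc (projPairing f G N₂)
  haveI : IsIso (LimSh.tensorModMap (H11Tilde.tensorDesc (projPairing f F N₁)) N₂) :=
    inferInstanceAs (IsIso (((DCoh.tensorBi (X := S)).flip.obj N₂).map (H11Tilde.tensorDesc (projPairing f F N₁))))
  haveI : IsIso θ := IsIso.comp_isIso
  intro S'
  obtain ⟨w, hw⟩ := (bijective_app θ ⊤).2 (show Γ((Coh.push f).obj _, ⊤) from S')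
  rw [← hw]
  have hmem := h w
  clear hw
  induction hmem using AddSubgroup.closure_induction with
  | mem z hz =>
    obtain ⟨a, b, rfl⟩ := hz
    refine AddSubgroup.subset_closure ⟨(H11Tilde.tensorDesc (projPairing f F N₁)).app ⊤ a,
      OmegaSh.pullSect f N₂ ⊤ b, ?_⟩
    refine Eq.symm ?_
    show (H11Tilde.tensorDesc (projPairing f G N₂)).app ⊤
      ((LimSh.tensorModMap (H11Tilde.tensorDesc (projPairing f F N₁)) N₂).app ⊤ (tm a b)) = _
    rw [H10Coh.Tw.map_tm, tensorDesc_tm]
    rfl
  | zero => rw [map_zero]; exact zero_mem _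
  | add y z _ _ hy hz => rw [map_add]; exact add_mem hy hz
  | neg y _ hy => rw [map_neg]; exact neg_mem hy

variable {k : Type u} [Field k] [X.Over (Spec (CommRingCat.of k))] [IsProper (X ↘ Spec (CommRingCat.of k))]

/-- A globally generated invertible module is pulled back from projective space. -/
theorem exists_toPn_gg {L : X.Modules} (hL : PicF.IsInvertible L) (hg : Curv2.IsGloballyGenerated L) :
    ∃ (n : ℕ) (r : X ⟶ CohB1.ProjSpace n k), r ≫ CohB1.ProjSpace.toSpec n k = X ↘ Spec (CommRingCat.of k) ∧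
      Nonempty ((Scheme.Modules.pullback r).obj (Twist.twistProjSpace n k 1) ≅ L) := by
  classical
  haveI := H28Int.isNoetherian k (X := X)
  choose g hg using exists_mem_gen_of_isGloballyGenerated hL hg
  obtain ⟨t, ht⟩ := isCompact_univ.elim_finite_subcover (fun x => (gen L (g x) : Set X)) (fun x => (gen L (g x)).2)
    fun x _ => Set.mem_iUnion.2 ⟨x, hg x⟩
  let e := t.equivFin
  let v : Fin (t.card + 1) → Γ(L, ⊤) := fun i => if h : i.1 < t.card then g (e.symm ⟨i.1, h⟩) else 0
  obtain ⟨r, hr, hτ, -⟩ := exists_toPn (n := t.card) (X ↘ Spec (CommRingCat.of k)) hL v fun x => by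
    obtain ⟨y, hy, hxy⟩ := Set.mem_iUnion₂.1 (ht (Set.mem_univ x))
    refine ⟨(e ⟨y, hy⟩).castSucc, ?_⟩
    show x ∈ gen L (if h : (e ⟨y, hy⟩).castSucc.1 < t.card then _ else 0)
    rw [dif_pos (show (e ⟨y, hy⟩).castSucc.1 < t.card from (e ⟨y, hy⟩).2)]
    simpa using hxy
  exact ⟨t.card, r, hr, hτ⟩

variable (k) in
include k in
/-- Multiplication of sections is eventually surjective. -/
theorem eventually_spanned {L : X.Modules} (hL : PicF.IsInvertible L) (hg : Curv2.IsGloballyGenerated L)
    {F : X.Modules} (hF : Coh.IsCoh F) :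
    ∃ m₀ : ℕ, 0 < m₀ ∧ ∀ a b : ℕ, m₀ ≤ a →
      Spanned (CohB1.tensorMod F (CohB1.tensorPow L a)) (CohB1.tensorPow L b) := by
  obtain ⟨n, r, hr, ⟨τ⟩⟩ := exists_toPn_gg (k := k) hL hg
  let P := CohB1.ProjSpace n k
  letI : P.Over (Spec (CommRingCat.of k)) := ⟨CohB1.ProjSpace.toSpec n k⟩
  haveI : IsProper (P ↘ Spec (CommRingCat.of k)) := inferInstanceAs (IsProper (CohB1.ProjSpace.toSpec n k))
  haveI := H28Int.isNoetherian k (X := P)
  haveI : IsProper r := by
    haveI : IsProper (r ≫ CohB1.ProjSpace.toSpec n k) := hr ▸ ‹IsProper (X ↘ Spec (CommRingCat.of k))›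
    exact IsProper.of_comp r (CohB1.ProjSpace.toSpec n k)
  haveI : (Scheme.Modules.pushforward r).IsRightAdjoint :=
    (Scheme.Modules.pullbackPushforwardAdjunction r).isRightAdjoint
  let G := (Coh.push r).obj F
  have hG : Coh.IsCoh G :=
    H10Coh.isCoh_of_iso ((Scheme.Modules.pushforward r).rightDerivedZeroIsoSelf.app F) (H10Coh.isCoh_rpush r F hF 0)
  obtain ⟨k₀, hk₀⟩ := H10Coh.Tw.exists_vanishing_proj (R := k) n G hG
  let O := fun a : ℤ => Twist.twistProjSpace n k a
  refine ⟨k₀ + n + 1, Nat.succ_pos _, fun a b ha => ?_⟩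
  have hreg : Reg O G (a : ℤ) := by
    intro i hi
    by_cases hin : i ≤ n
    · obtain ⟨c, hc⟩ := Int.eq_ofNat_of_zero_le (show 0 ≤ (a : ℤ) - i by omega)
      show Van i (CohB1.tensorMod G (O ((a : ℤ) - i)))
      rw [hc]
      exact hk₀ c (by omega) i hi
    · exact van_high k n (by omega) (H11Ample.isCoh_tensor hG ((setup k n).fam.inv _)).1
  have hsp := spanned_nat (setup k n) hreg b
  have hinv := (setup k n).fam.inv
  have hs := spanned_pullback r F (hinv a) (hinv b) hsp
  have e : ∀ c : ℕ, Nonempty ((Scheme.Modules.pullback r).obj (O c) ≅ CohB1.tensorPow L c) := fun c => by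
    obtain ⟨e₁⟩ := (setup k n).fam.nonempty_tensorPow c
    obtain ⟨e₂⟩ := exists_iso_pullback_tensorPow r (hinv 1) c
    have hc : ∀ i, Nonempty (CohB1.tensorPow ((Scheme.Modules.pullback r).obj (O 1)) i ≅ CohB1.tensorPow L i) := by
      intro i
      induction i with
      | zero => exact ⟨Iso.refl _⟩
      | succ i ih => obtain ⟨e⟩ := ih; exact ⟨PicGrp.tensorModIso e τ⟩
    obtain ⟨e₃⟩ := hc c
    exact ⟨(Scheme.Modules.pullback r).mapIso e₁.symm ≪≫ e₂ ≪≫ e₃⟩
  obtain ⟨ea⟩ := e a
  obtain ⟨eb⟩ := e b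
  exact (hs.of_iso_left (PicGrp.tensorModIso (Iso.refl F) ea)).of_iso_right eb

end Groth.Agent.H27Mul
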