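import Groth.Agent.H22Alg.FatPoints
import Groth.Agent.H22Alg.IdealPowFam
import Groth.Agent.H10Coh.MulSections
import Groth.Agent.H7Lim.ModLocFree
import Groth.Agent.H23SB.TensorEnd

/-!
# Surjectivity of multiplication of sections from a divisor
-/

set_option autoImplicit false
set_option linter.style.haveILetI false
set_option linter.unusedSectionVars false
set_option backward.isDefEq.respectTransparency.types false
universe u

open CategoryTheory CategoryTheory.Limits AlgebraicGeometry Opposite TopologicalSpace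
open Groth.Agent Groth.Agent.H22Alg.CMField
open scoped TensorProduct
open Groth.Agent.H11Ample (tm)
attribute [local instance 10000] Groth.Agent.H10Coh.hasSheafifyAb Groth.Agent.H10Coh.hasWeakSheafifyAb Groth.Agent.H10Coh.hasExtAb Groth.Agent.H10Coh.enoughInjAb

noncomputable section

namespace Groth.Agent.H27Mul

variable {X : Scheme.{u}}

/-- Surjectivity of sectionwise multiplication means that products span. -/
theorem spanned_of_surjective {M N : X.Modules} (h : Function.Surjective ((toSheafify (Opens.grothendieckTopology X)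
      (CohB1.tensorPre M N).presheaf).app (op ⊤))) : Spanned M N := by
  intro S
  obtain ⟨t, rfl⟩ := h S
  let f : (CohB1.toPMod M).obj (op ⊤) ⊗[(X.sheaf.obj ⋙ forget₂ CommRingCat RingCat).obj (op ⊤)] (CohB1.toPMod N).obj (op ⊤) →+
      Γ(CohB1.tensorMod M N, ⊤) :=
    ((toSheafify (Opens.grothendieckTopology X) (CohB1.tensorPre M N).presheaf).app (op ⊤)).hom
  show f t ∈ _
  induction t using TensorProduct.induction_on with
  | zero => rw [map_zero]; exact zero_mem _
  | tmul a b => exact AddSubgroup.subset_closure ⟨a, b, rfl⟩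
  | add x y hx hy => rw [map_add]; exact add_mem hx hy

variable (I : X.IdealSheafData)

local notation "T" => DCoh.tensorBi (X := X)

theorem stalkLin_zero {M N : X.Modules} (x : X) (v : M.presheaf.stalk x) :
    H06Mod.stalkLin (0 : M ⟶ N) x v = 0 := by
  obtain ⟨U, hU, a, rfl⟩ := M.presheaf.exists_germ_eq v
  rw [H06Mod.stalkLin_germ]
  exact map_zero _

/-- The structure sheaf of a closed subscheme is killed by the ideal on stalks. -/
theorem smul_quot_eq_zero [Epi (ClSub.toSubscheme I)] (x : X) (j : (ClSub.idealMod I).presheaf.stalk x)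
    (c : X.presheaf.stalk x)
    (hc : H06Mod.stalkLin (ClSub.idealModι I) x j =
      c • (Coh.structureModule X).presheaf.germ ⊤ x trivial (H11Ample.one ⊤))
    (q : (ClSub.quotMod I).presheaf.stalk x) : c • q = 0 := by
  obtain ⟨U, -, -, hxU, b, rfl⟩ := H22Alg.FatPoints.exists_lift (ClSub.toSubscheme I) x q (W := ⊤) trivial
  obtain ⟨d, hd⟩ := (H11Ample.isGen_one (X := X) ⊤ x trivial).2 ((Coh.structureModule X).presheaf.germ U x hxU b)
  have h0 : H06Mod.stalkLin (ClSub.toSubscheme I) x (H06Mod.stalkLin (ClSub.idealModι I) x j) = 0 := by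
    obtain ⟨V, hV, m, rfl⟩ := (ClSub.idealMod I).presheaf.exists_germ_eq j
    rw [H06Mod.stalkLin_germ, H06Mod.stalkLin_germ]
    refine (congrArg _ (congr($(congrArg (fun f => Scheme.Modules.Hom.app f V)
      (kernel.condition (ClSub.toSubscheme I))) m))).trans ?_
    exact map_zero _
  rw [← H06Mod.stalkLin_germ, ← hd, map_smul, smul_smul, mul_comm, ← smul_smul, ← map_smul, ← hc, h0,
    smul_zero]

/-- A pure tensor from the ideal is a multiple from the ideal. -/
theorem toStalk_ideal_tmul (E : X.Modules) (x : X) (j : (ClSub.idealMod I).presheaf.stalk x)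
    (c : X.presheaf.stalk x)
    (hc : H06Mod.stalkLin (ClSub.idealModι I) x j =
      c • (Coh.structureModule X).presheaf.germ ⊤ x trivial (H11Ample.one ⊤))
    (e : E.presheaf.stalk x) :
    H06Mod.stalkLin (LimSh.tensorModMap (ClSub.idealModι I) E) x
        (H16Derived.KFlat.Stalk.toStalk (ClSub.idealMod I) E x (j ⊗ₜ e)) =
      c • H16Derived.KFlat.Stalk.toStalk (Coh.structureModule X) E x
        ((Coh.structureModule X).presheaf.germ ⊤ x trivial (H11Ample.one ⊤) ⊗ₜ e) := by
  have h := H16Derived.KFlat.Stalk.toStalk_naturality x (ClSub.idealModι I) (𝟙 E) (j ⊗ₜ e)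
  rw [CategoryTheory.Functor.map_id, Category.comp_id, TensorProduct.map_tmul] at h
  have hid : H06Mod.stalkLin (𝟙 E) x e = e := congr($((DerSch.stalkFunctor X x).map_id E) e)
  refine h.trans ?_
  rw [← map_smul, TensorProduct.smul_tmul']
  exact congrArg _ (congrArg₂ (· ⊗ₜ ·) hc hid)

/-- A quotient module is killed on stalks. -/
theorem smul_tensor_quot_eq_zero [Epi (ClSub.toSubscheme I)] (M : X.Modules) (x : X)
    (j : (ClSub.idealMod I).presheaf.stalk x) (c : X.presheaf.stalk x)
    (hc : H06Mod.stalkLin (ClSub.idealModι I) x j =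
      c • (Coh.structureModule X).presheaf.germ ⊤ x trivial (H11Ample.one ⊤))
    (w : (CohB1.tensorMod (ClSub.quotMod I) M).presheaf.stalk x) : c • w = 0 := by
  obtain ⟨t, rfl⟩ := (H16Derived.KFlat.Stalk.toStalk_bijective (ClSub.quotMod I) M x).2 w
  have h0 : c • t = 0 := by
    induction t using TensorProduct.induction_on with
    | zero => exact smul_zero _
    | tmul q l =>
      rw [TensorProduct.smul_tmul']
      exact (congrArg (· ⊗ₜ l) (smul_quot_eq_zero I x j c hc q)).trans (TensorProduct.zero_tmul _ l)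
    | add a b ha hb => rw [smul_add, ha, hb, add_zero]
  exact ((map_smul (H16Derived.KFlat.Stalk.toStalk (ClSub.quotMod I) M x) c t).symm.trans
    (congrArg _ h0)).trans (map_zero _)

/-- On a module restricted to the subscheme the restriction of another module is injective. -/
theorem mono_restrict [Epi (ClSub.toSubscheme I)] {E L : X.Modules}
    (hS : ((ShortComplex.mk (ClSub.idealModι I) (ClSub.toSubscheme I) (kernel.condition _)).map
      ((DCoh.tensorBi (X := X)).flip.obj E)).ShortExact) :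
    Mono (LimSh.tensorModMap (LimSh.tensorModMap (ClSub.toSubscheme I) E)
      (CohB1.tensorMod (ClSub.quotMod I) L)) := by
  let M := CohB1.tensorMod (ClSub.quotMod I) L
  let F := (T).flip.obj M
  let ι' := LimSh.tensorModMap (ClSub.idealModι I) E
  have h0 : F.map ι' = 0 := by
    refine H23SB.tensor_hom_ext fun x t => ?_
    have h := H16Derived.KFlat.Stalk.toStalk_naturality x ι' (𝟙 M) t
    rw [CategoryTheory.Functor.map_id, Category.comp_id] at h
    refine h.trans ?_
    refine Eq.trans ?_ (stalkLin_zero _ _).symm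
    have hpure : ∀ j e (m : M.presheaf.stalk x),
        H06Mod.stalkLin ι' x (H16Derived.KFlat.Stalk.toStalk (ClSub.idealMod I) E x (j ⊗ₜ e)) ⊗ₜ[X.presheaf.stalk x]
          H06Mod.stalkLin (𝟙 M) x m = (0 : (CohB1.tensorMod (Coh.structureModule X) E).presheaf.stalk x
            ⊗[X.presheaf.stalk x] M.presheaf.stalk x) := fun j e m => by
      obtain ⟨c, hc⟩ := (H11Ample.isGen_one (X := X) ⊤ x trivial).2
        (H06Mod.stalkLin (ClSub.idealModι I) x j)
      let B := TensorProduct.mk (X.presheaf.stalk x) ((CohB1.tensorMod (Coh.structureModule X) E).presheaf.stalk x)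
        (M.presheaf.stalk x)
      exact (congrArg₂ (fun u v => u ⊗ₜ[X.presheaf.stalk x] v) (toStalk_ideal_tmul I E x j c hc.symm e)
        (congr($((DerSch.stalkFunctor X x).map_id M) m))).trans ((LinearMap.map_smul₂ B c _ m).trans
          (((B _).map_smul c m).symm.trans ((congrArg (B _) (smul_tensor_quot_eq_zero I L x j c hc.symm m)).trans
            (B _).map_zero)))
    let ψ := TensorProduct.map (H06Mod.stalkLin ι' x) (H06Mod.stalkLin (𝟙 M) x)
    have hlin : ∀ m, (ψ.comp ((TensorProduct.mk (X.presheaf.stalk x) _ _).flip m)).comp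
        (H16Derived.KFlat.Stalk.toStalk (ClSub.idealMod I) E x) = 0 := fun m =>
      TensorProduct.ext' fun j e => hpure j e m
    refine TensorProduct.induction_on t ?_ (fun w m => ?_) fun a b ha hb => ?_
    · rw [map_zero, map_zero]
    · obtain ⟨s, rfl⟩ := (H16Derived.KFlat.Stalk.toStalk_bijective (ClSub.idealMod I) E x).2 w
      exact (congrArg _ (LinearMap.congr_fun (hlin m) s)).trans (map_zero _)
    · rw [map_add, map_add, ha, hb, add_zero]
  haveI := hS.mono_f
  haveI := hS.epi_g
  let hc := CokernelCofork.mapIsColimit _ hS.gIsCokernel F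
  have hd : F.map ι' ≫ 𝟙 _ = 0 := by rw [h0, zero_comp]
  exact (SplitMono.mk (hc.desc (CokernelCofork.ofπ (𝟙 _) hd))
    (hc.fac (CokernelCofork.ofπ (𝟙 _) hd) WalkingParallelPair.one)).mono

/-- Surjectivity of multiplication lifts from a divisor. -/
theorem spanned_of_restrict {E L : X.Modules} (hE : FlatMod.IsFinLocFree E) (hL : PicF.IsInvertible L)
    [IsLocallyNoetherian X]
    (hI : Spanned (CohB1.tensorMod (Coh.structureModule X) E) (CohB1.tensorMod (ClSub.idealMod I) L))
    (hvE : Subsingleton (Coh.HH X (CohB1.tensorMod (ClSub.idealMod I) E) 1))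
    (hvL : Subsingleton (Coh.HH X (CohB1.tensorMod (ClSub.idealMod I) L) 1))
    (hD : Spanned (CohB1.tensorMod (ClSub.quotMod I) E) (CohB1.tensorMod (ClSub.quotMod I) L)) :
    Spanned E L := by
  haveI := H10Coh.epi_toSubscheme I
  have hS : (ShortComplex.mk (ClSub.idealModι I) (ClSub.toSubscheme I) (kernel.condition _)).ShortExact :=
    { exact := ShortComplex.exact_kernel _
      mono_f := inferInstanceAs (Mono (kernel.ι _)) }
  have hEf := H16Derived.KFlat.Stalk.isFlat_of_isFinLocFree hE
  have hLf := H16Derived.KFlat.Stalk.isFlat_of_isFinLocFree (H28Pinch.isFinLocFree_of_isInvertible hL)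
  have hSE := H16Derived.KFlat.Stalk.isFlatObj_of_isFlat hEf _ hS
  have hSL := H16Derived.KFlat.Stalk.isFlatObj_of_isFlat hLf _ hS
  let E' := CohB1.tensorMod (Coh.structureModule X) E
  let L' := CohB1.tensorMod (Coh.structureModule X) L
  have hE'f := H16Derived.KFlat.Stalk.isFlat_of_isFinLocFree
    (H7Lim.ModLocFree.isFinLocFree_of_iso (H10Coh.Tw.leftUnitIso E).symm hE)
  have hS' := H16Derived.KFlat.Stalk.isFlatObj_flip_of_isFlat hE'f _ hSL
  let πE : E' ⟶ CohB1.tensorMod (ClSub.quotMod I) E := LimSh.tensorModMap (ClSub.toSubscheme I) E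
  let πL : L' ⟶ CohB1.tensorMod (ClSub.quotMod I) L := LimSh.tensorModMap (ClSub.toSubscheme I) L
  let ιL : CohB1.tensorMod (ClSub.idealMod I) L ⟶ L' := LimSh.tensorModMap (ClSub.idealModι I) L
  have hsE : Function.Surjective (πE.app ⊤) :=
    H10Coh.surjective_app_of_subsingleton_HnM hSE ⊤ ((H10Coh.HHEquiv _ 1).toEquiv.subsingleton_congr.1 hvE)
  have hsL : Function.Surjective (πL.app ⊤) :=
    H10Coh.surjective_app_of_subsingleton_HnM hSL ⊤ ((H10Coh.HHEquiv _ 1).toEquiv.subsingleton_congr.1 hvL)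
  let T₁ := H22Alg.KosTwist.tensorLeftMap E' πL
  let T₂ := LimSh.tensorModMap πE (CohB1.tensorMod (ClSub.quotMod I) L)
  haveI : Mono T₂ := mono_restrict I (L := L) hSE
  refine (Spanned.of_iso_right (N := L') (Spanned.of_iso_left (M := E') ?_ (H10Coh.Tw.leftUnitIso E))
    (H10Coh.Tw.leftUnitIso L))
  intro S
  have key : ∀ w ∈ AddSubgroup.closure {w : Γ(CohB1.tensorMod (CohB1.tensorMod (ClSub.quotMod I) E)
      (CohB1.tensorMod (ClSub.quotMod I) L), ⊤) | ∃ a b, tm a b = w},
      ∃ S₀ ∈ AddSubgroup.closure {w : Γ(CohB1.tensorMod E' L', ⊤) | ∃ a b, tm a b = w},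
        T₂.app ⊤ (T₁.app ⊤ S₀) = w := by
    intro w hw
    induction hw using AddSubgroup.closure_induction with
    | mem z hz =>
      obtain ⟨a, b, rfl⟩ := hz
      obtain ⟨a, rfl⟩ := hsE a
      obtain ⟨b, rfl⟩ := hsL b
      refine ⟨tm a b, AddSubgroup.subset_closure ⟨a, b, rfl⟩, ?_⟩
      rw [H22Alg.KosTwist.map_tm_right, H10Coh.Tw.map_tm]
    | zero => exact ⟨0, zero_mem _, by rw [map_zero, map_zero]⟩
    | add y z _ _ hy hz =>
      obtain ⟨a, ha, rfl⟩ := hy
      obtain ⟨b, hb, rfl⟩ := hz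
      exact ⟨a + b, add_mem ha hb, by rw [map_add, map_add]⟩
    | neg y _ hy =>
      obtain ⟨a, ha, rfl⟩ := hy
      exact ⟨-a, neg_mem ha, by rw [map_neg, map_neg]⟩
  obtain ⟨S₀, hS₀, h⟩ := key _ (hD (T₂.app ⊤ (T₁.app ⊤ S)))
  have h1 : T₁.app ⊤ (S - S₀) = 0 := by
    rw [map_sub, H10Coh.injective_app_of_mono' T₂ ⊤ h, sub_self]
  obtain ⟨w, hw⟩ := H10Coh.exists_app_eq_of_exact hS' ⊤ (S - S₀) h1
  let ψ : Γ(CohB1.tensorMod E' (CohB1.tensorMod (ClSub.idealMod I) L), ⊤) →+ Γ(CohB1.tensorMod E' L', ⊤) :=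
    ((H22Alg.KosTwist.tensorLeftMap E' ιL).app ⊤).hom
  have hsub : ∀ w, ψ w ∈ AddSubgroup.closure {w : Γ(CohB1.tensorMod E' L', ⊤) | ∃ a b, tm a b = w} := by
    intro w
    have := hI w
    induction this using AddSubgroup.closure_induction with
    | mem z hz =>
      obtain ⟨a, b, rfl⟩ := hz
      exact AddSubgroup.subset_closure ⟨a, ιL.app ⊤ b, (H22Alg.KosTwist.map_tm_right E' ιL a b).symm⟩
    | zero => rw [map_zero]; exact zero_mem _
    | add y z _ _ hy hz => rw [map_add]; exact add_mem hy hz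
    | neg y _ hy => rw [map_neg]; exact neg_mem hy
  have hmem : S - S₀ ∈ AddSubgroup.closure {w : Γ(CohB1.tensorMod E' L', ⊤) | ∃ a b, tm a b = w} :=
    hw ▸ hsub w
  simpa using add_mem hmem hS₀

end Groth.Agent.H27Mul
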